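import Cfsg.Agent.H116.RatB0.StAut
import Cfsg.Agent.H116.RatB0.RowRgd
import Cfsg.Agent.H116.CY.Wit
import Cfsg.Agent.H116.RatB0.StExc_m3
import Cfsg.Agent.FastGrp
import Cfsg.Agent.Prune
set_option linter.all false

section
prune_inst 0x7f00000000000000000000000000000000000000000000000000000000000000000000000000000000000000000000000000000000000000000000000000000000000000000000000000000000000000003fffffffffffffffffffffffffffbeffbdffffffff

-- part: H116/CY/StA
section
set_option linter.all false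
open scoped Cfsg.Agent.FastGrp

/-!
# S4829 : the Steinberg character as a witness, elliptic case (helper116)

* `exists_ext` : the integer valued extension of the Steinberg character, with its values `sign(typ a) * cnt a`;
* `rowA_of_ell` : `RowA p S` if `p` divides the index of every proper parabolic subgroup `P_J` (every automorphism is
  allowed, in particular graph automorphisms).
-/

set_option autoImplicit false
set_option linter.unusedSectionVars false

namespace Cfsg.Agent.H116.CY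

open Cfsg CoxeterSystem Cfsg.Agent.ChevalleyStructure.CoxeterGeom Cfsg.Agent.Tits.Roots Cfsg.Agent.Tits.Core
  Cfsg.Agent.Tits.Exchange Cfsg.Agent.Nodes.Reps Cfsg.Agent.Nodes.BNOf Cfsg.Agent.Nodes.StabComb
  Cfsg.Agent.Nodes.Bruhat Cfsg.Agent.Nodes.OppDec Cfsg.Agent.Nodes.LeviDec Cfsg.Agent.Nodes.NormalForm
  Cfsg.Agent.KFacts.RgdOpp Cfsg.Agent.KFacts.RgdAut Cfsg.Agent.KFacts.RgdDiag Cfsg.Agent.H554.RG
  Cfsg.Agent.H116.RatB0 Cfsg.Agent.H116.TraceOrb Cfsg.Agent.H167.AltTrace Cfsg.Agent.H167.AltBldg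
  Cfsg.Agent.H116.StAut Cfsg.Agent.H770.CY

universe u v

section Ext

variable {I W S : Type*} [Fintype I] [DecidableEq I] [Group W] [Group S] {M : CoxeterMatrix I}
  {cs : CoxeterSystem M W} {A : I → I → ℤ} {h : IsCartan M A} {r : ℕ} {T : Subgroup S} {n : I → S}
  {X : (I → ℤ) → Subgroup S}

/-- **The integer valued extension of the Steinberg character**, with its values. -/
theorem exists_ext [Finite W] [Finite S] [Fact r.Prime] (R : RGD cs h r T n X) (hG : GG cs h T X = ⊤)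
    [Fintype (S ⧸ RGD.B cs h T X)] (Δ : Bldg cs (S ⧸ RGD.B cs h T X))
    (hiso : ∀ (g : S) (x y : S ⧸ RGD.B cs h T X), Δ.δ (g • x) (g • y) = Δ.δ x y)
    (htr : ∀ x y x' y' : S ⧸ RGD.B cs h T X, Δ.δ x y = Δ.δ x' y' → ∃ g : S, g • x = x' ∧ g • y = y')
    (hδ : ∀ (a b k : S) (w : W), Rp cs R.nsys w k → (Δ.δ (QuotientGroup.mk a) (QuotientGroup.mk b) = w ↔
        ∃ b₁ ∈ RGD.B cs h T X, ∃ b₂ ∈ RGD.B cs h T X, a⁻¹ * b = b₁ * k * b₂))
    {A' : Type*} [Group A'] [Finite A'] (f : S →* A') (ψ : A' →* MulAut S) (hψ : ∀ s, ψ (f s) = MulAut.conj s) :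
    ∃ th : A' → ℤ, IsIrrCharacter A' (fun a => (th a : ℂ)) ∧ IsIrrCharacter S (fun s => (th (f s) : ℂ)) ∧
      th 1 = Nat.card (RGD.Sup X (RGD.Pos cs h)) ∧
      ∀ a : A', th a = ((Equiv.Perm.sign (typHom R hG (ψ a)) : ℤˣ) : ℤ) * cnt R hG Δ (ψ a) := by
  classical
  have : Fintype A' := Fintype.ofFinite _
  let _ := mact R hG ψ
  set c : S ⧸ RGD.B cs h T X := QuotientGroup.mk 1 with hc
  have hne : Nonempty (S ⧸ RGD.B cs h T X) := ⟨c⟩
  have hσ : ∀ (a : A') (K : Finset I) (x y : S ⧸ RGD.B cs h T X), (bSys Δ c).r K x y ↔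
      (bSys Δ c).r (K.map (typHom R hG (ψ a)).toEmbedding) (a • x) (a • y) := fun a K x y =>
    rel_iff R hG Δ hδ (ψ a) K x y
  have hmemA : ∀ (a : A') (v : S ⧸ RGD.B cs h T X → ℂ), v ∈ H167.SteinbergMod.Harm Δ →
      permRep ℂ A' (S ⧸ RGD.B cs h T X) a v ∈ H167.SteinbergMod.Harm Δ := by
    intro a v hv
    rw [← harm_bSys Δ c] at hv ⊢
    exact TraceOrb.mem_harm (bSys Δ c) a _ (hσ a) v hv
  let ρ : Representation ℂ A' (H167.SteinbergMod.Harm Δ) :=
    { toFun := fun a => (permRep ℂ A' (S ⧸ RGD.B cs h T X) a).restrict (hmemA a)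
      map_one' := by ext; simp only [_root_.map_one, _root_.LinearMap.coe_restrict_apply, _root_.Module.End.one_apply]
      map_mul' := fun x y => by ext; simp only [_root_.map_mul, _root_.LinearMap.coe_restrict_apply, _root_.Module.End.mul_apply] }
  have htrace : ∀ a : A', ρ.character a = ((cnt R hG Δ (ψ a) : ℤ) : ℂ) := by
    intro a
    have h1 := TraceOrb.trace_harm (bSys Δ c) a (typHom R hG (ψ a)) (hσ a)
    have h2 : ρ.character a = LinearMap.trace ℂ (bSys Δ c).harm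
        ((permRep ℂ A' (S ⧸ RGD.B cs h T X) a).restrict (TraceOrb.mem_harm (bSys Δ c) a _ (hσ a))) :=
      trace_congr (harm_bSys Δ c).symm (permRep ℂ A' (S ⧸ RGD.B cs h T X) a) (hmemA a) _
    rw [h2, h1]
    unfold cnt
    push_cast
    rfl
  have hrestr : (ρ.comp f : Representation ℂ S (H167.SteinbergMod.Harm Δ)) = H167.SteinbergMod.stRep Δ hiso := by
    refine MonoidHom.ext fun k => LinearMap.ext fun v => Subtype.ext ?_
    funext x
    have h1 : (f k)⁻¹ • x = k⁻¹ • x := by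
      show act R hG (ψ (f k)⁻¹) x = k⁻¹ • x
      rw [← map_inv f, hψ, act_conj]
    change (v : S ⧸ RGD.B cs h T X → ℂ) ((f k)⁻¹ • x) = (v : S ⧸ RGD.B cs h T X → ℂ) (k⁻¹ • x)
    rw [h1]
  -- the apartments
  choose k hk using fun w : W => exists_rp cs R.nsys w
  have hap0 : ∀ v w, Δ.δ (QuotientGroup.mk (k v)) (QuotientGroup.mk (k w)) = v⁻¹ * w := by
    intro v w
    rw [hδ _ _ _ _ ((hk v).inv.mul (hk w))]
    exact ⟨1, one_mem _, 1, one_mem _, by group⟩
  have hapt : ∀ x y, Δ.Opp x y → ∃ a : W → S ⧸ RGD.B cs h T X,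
      (∀ v w, Δ.δ (a v) (a w) = v⁻¹ * w) ∧ a 1 = x ∧ a (w0 cs) = y := by
    intro x y hxy
    have h1 : Δ.δ (QuotientGroup.mk (k 1)) (QuotientGroup.mk (k (w0 cs))) = Δ.δ x y := by
      rw [hap0, inv_one, one_mul]
      exact hxy.symm
    obtain ⟨g, hg1, hg2⟩ := htr _ _ _ _ h1
    refine ⟨fun w => g • QuotientGroup.mk (k w), ?_, hg1, hg2⟩
    intro v w
    rw [hiso, hap0]
  have hirr : (H167.SteinbergMod.stRep Δ hiso).IsIrreducible := by
    refine H167.SteinbergMod.irreducible Δ hiso (QuotientGroup.mk (k 1)) (hapt _) ⟨QuotientGroup.mk (k (w0 cs)), ?_⟩ htr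
    unfold Bldg.Opp
    rw [hap0, inv_one, one_mul]
  have hirrA : ρ.IsIrreducible := H691.StExt.isIrreducible_of_restrict ρ f (by rw [hrestr]; exact hirr)
  have hres : ∀ s, (H167.SteinbergMod.stRep Δ hiso).character s = ((cnt R hG Δ (ψ (f s)) : ℤ) : ℂ) := by
    intro s
    rw [← htrace, ← hrestr]
    rfl
  have hsgn : ∀ s : S, Equiv.Perm.sign (typHom R hG (ψ (f s))) = 1 := by
    intro s
    rw [hψ, typHom_conj, map_one]
  refine ⟨fun a => ((Equiv.Perm.sign (typHom R hG (ψ a)) : ℤˣ) : ℤ) * cnt R hG Δ (ψ a), ?_, ?_, ?_, ?_⟩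
  · have h1 := Characters.Core.isIrrCharacter_of_rep _ hirrA
    have h2 := CharactersDeep.AbelianQuotient.isIrr_linear_mul ((Units.map (Int.castRingHom ℂ).toMonoidHom).comp
      ((Equiv.Perm.sign (α := I)).comp ((typHom R hG).comp ψ))) h1
    convert h2 using 1
    funext a
    rw [Pi.mul_apply, htrace]
    push_cast
    rfl
  · have h1 := Characters.Core.isIrrCharacter_of_rep _ hirr
    convert h1 using 1
    funext s
    show ((((Equiv.Perm.sign (typHom R hG (ψ (f s))) : ℤˣ) : ℤ) * cnt R hG Δ (ψ (f s)) : ℤ) : ℂ) = _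
    rw [hres, hsgn, Units.val_one, one_mul]
  · have h1 := hres 1
    rw [H167.SteinbergMod.character_eq Δ hiso c (hapt c) (one_smul S c),
      H167.AltRGD.card_opp_fixed R Δ hδ (one_mem _)] at h1
    have h2 : Nat.card {u : RGD.Sup X (RGD.Pos cs h) // (u : S)⁻¹ * 1 * u ∈ T} =
        Nat.card (RGD.Sup X (RGD.Pos cs h)) :=
      Nat.card_congr ⟨fun u => u.1, fun u => ⟨u, by simp⟩, fun u => rfl, fun u => rfl⟩
    rw [h2, map_one] at h1
    have h3 := hsgn 1
    rw [map_one] at h3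
    have h4 : ((Nat.card (RGD.Sup X (RGD.Pos cs h)) : ℤ)) = cnt R hG Δ (ψ 1) := by exact_mod_cast h1
    show ((Equiv.Perm.sign (typHom R hG (ψ 1)) : ℤˣ) : ℤ) * cnt R hG Δ (ψ 1) = _
    rw [h3, h4, Units.val_one, one_mul]
  · exact fun a => rfl

end Ext

section Row

variable {I W : Type*} {S : Type u} [Fintype I] [DecidableEq I] [Group W] [Group S] {M : CoxeterMatrix I}
  {cs : CoxeterSystem M W} {A : I → I → ℤ} {h : IsCartan M A} {r : ℕ} {T : Subgroup S} {n : I → S}
  {X : (I → ℤ) → Subgroup S} (R : RGD cs h r T n X)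

include R

/-- `|U|` is a power of `r` -/
theorem not_dvd_card_U [Finite W] [Finite S] [hr : Fact r.Prime] (hG : GG cs h T X = ⊤) {p : ℕ}
    [hp : Fact p.Prime] (hpr : p ≠ r) : ¬ p ∣ Nat.card (RGD.Sup X (RGD.Pos cs h)) := by
  obtain ⟨Q, hQ⟩ := exists_sylow R hG
  obtain ⟨k, hk⟩ := IsPGroup.iff_card.1 Q.isPGroup'
  rw [← hQ]
  intro h6
  rw [hk] at h6
  exact hpr ((Nat.prime_dvd_prime_iff_eq hp.out hr.out).1 (hp.out.dvd_of_dvd_pow h6))

/-- **The row from the Steinberg character**: the values of the integer valued extension are constant modulo `p` -/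
theorem rowA_of_value [Finite W] [Fintype S] [Nonempty I] [hr : Fact r.Prime] (hG : GG cs h T X = ⊤) {p : ℕ}
    [hp : Fact p.Prime] (hpr : p ≠ r)
    (hv : ∀ (_ : Fintype (S ⧸ RGD.B cs h T X)) (Δ : Bldg cs (S ⧸ RGD.B cs h T X)),
      (∀ (g : S) (x y : S ⧸ RGD.B cs h T X), Δ.δ (g • x) (g • y) = Δ.δ x y) →
      (∀ (a b k : S) (w : W), Rp cs R.nsys w k → (Δ.δ (QuotientGroup.mk a) (QuotientGroup.mk b) = w ↔
        ∃ b₁ ∈ RGD.B cs h T X, ∃ b₂ ∈ RGD.B cs h T X, a⁻¹ * b = b₁ * k * b₂)) →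
      ∀ (Q : Sylow p S) (a : MulAut S), ¬ p ∣ orderOf a → (∀ q ∈ Q, a q = q) →
        ((Equiv.Perm.sign (typHom R hG a) : ℤˣ) : ℤ) * cnt R hG Δ a ≡
          ((Equiv.Perm.sign (typHom R hG 1) : ℤˣ) : ℤ) * cnt R hG Δ 1 [ZMOD p]) : RowA p S := by
  intro A' hA' M' hM
  obtain ⟨Δ, hiso, htr, hδ⟩ := H167.SteinbergRGD.exists_bldg R (hgen_of_GG R hG)
  have hfi : Fintype (S ⧸ RGD.B cs h T X) := Fintype.ofFinite _
  obtain ⟨th, h1, h2, h3, h4⟩ := exists_ext R hG Δ hiso htr hδ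
    (A' := A') ((MulAut.conj : S →* MulAut S).codRestrict A' hA'.1) A'.subtype (fun s => rfl)
  refine ⟨fun a => (th a : ℂ), witA_of_int hM hA'.1 th h1 h2 h3 (one_lt_card_U R).ne' (not_dvd_card_U R hG hpr) ?_⟩
  intro a ha hQ
  obtain ⟨Q, hQ⟩ := hQ
  rw [h4, h4]
  have h5 : ¬ p ∣ orderOf (a : MulAut S) := by rwa [Subgroup.orderOf_coe]
  have h6 := hv hfi Δ hiso hδ Q (a : MulAut S) h5 hQ
  simpa only [_root_.Subgroup.subtype_apply, _root_.OneMemClass.coe_one, _root_.map_one, _root_.Equiv.Perm.sign_one, _root_.Units.val_one, _root_.one_mul] using h6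

/-- **The elliptic case**: `p` divides the index of every proper parabolic subgroup. -/
theorem rowA_of_ell [Finite W] [Fintype S] [Nonempty I] [hr : Fact r.Prime] (hG : GG cs h T X = ⊤) {p : ℕ}
    [hp : Fact p.Prime] (hpr : p ≠ r)
    (hJ : ∀ J : Finset I, J ≠ Finset.univ → p ∣ (PJ cs h T X (J : Set I)).index) : RowA p S := by
  refine rowA_of_value R hG hpr fun _ Δ hiso hδ Q a _ hQ => ?_
  have key : ∀ b : MulAut S, (∀ q ∈ Q, b q = q) → ((Equiv.Perm.sign (typHom R hG b) : ℤˣ) : ℤ) * cnt R hG Δ b ≡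
      (-1) ^ Fintype.card I [ZMOD p] := by
    intro b hb
    refine ((cnt_modEq R hG Δ hiso hδ hJ Q hb).mul_left _).trans ?_
    rw [sign_eq, ← pow_add, add_assoc, pow_add, ← two_mul, pow_mul (-1 : ℤ) 2]
    simp only [_root_.Int.reduceNeg, _root_.even_two, _root_.Even.neg_pow, _root_.one_pow, _root_.mul_one, _root_.Int.ModEq.refl]
  exact (key a hQ).trans (key 1 fun q _ => rfl).symm

/-- the elliptic case, with the maximal parabolic subgroups only -/
theorem rowA_of_index [Finite W] [Fintype S] [Nonempty I] [hr : Fact r.Prime] (hG : GG cs h T X = ⊤) {p : ℕ}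
    [hp : Fact p.Prime] (hpr : p ≠ r) (hJ : ∀ k : I, p ∣ (PJ cs h T X {j | j ≠ k}).index) : RowA p S := by
  refine rowA_of_ell R hG hpr fun J hJ' => ?_
  obtain ⟨k, hk⟩ : ∃ k, k ∉ J := by
    by_contra hcon
    push Not at hcon
    exact hJ' (Finset.eq_univ_iff_forall.2 hcon)
  refine (hJ k).trans (Subgroup.index_dvd_of_le (PJ_mono R ?_))
  intro j hj hjk
  subst hjk
  exact hk hj

end Row

end Cfsg.Agent.H116.CY
end

-- part: H116/CY/ExcA
section
set_option linter.all false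
open scoped Cfsg.Agent.FastGrp

/-!
# S4829 : the elliptic primes of the untwisted exceptional groups (helper116)

`rowA_X_of_dvd` : `p ∣ Φ_m(q)` for one of the numbers `m` for which `Φ_m` divides the indices of all maximal parabolic
subgroups (`E₈` : 2, 3, 4, 5, 6, 8, 10, 12, 15, 20, 24, 30; `E₇` : 2, 6, 14, 18; `E₆` : 3, 6, 9, 12; `F₄` : 2, 3, 4, 6, 8,
12; `G₂` : 2, 3, 6); all automorphisms are allowed.
-/

set_option autoImplicit false
set_option linter.unusedSectionVars false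

namespace Cfsg.Agent.H116.CY

open CoxeterSystem Cfsg.Agent.ChevalleyStructure.CoxeterGeom Cfsg.Agent.Tits.Roots Cfsg.Agent.Tits.Core
  Cfsg.Agent.Tits.RootComb Cfsg.Agent.Nodes.Reps Cfsg.Agent.Nodes.BNOf
  Cfsg.Agent.Nodes.StabComb Cfsg.Agent.Nodes.Bruhat Cfsg.Agent.Nodes.LeviDec Cfsg.Agent.H35.Poin
  Cfsg.Agent.H35.PoinNum Cfsg.Agent.H35.ExcIdx Cfsg.Agent.H134.StrP
  Cfsg.Agent.ChevalleyStructure.CoxeterGeomTypes Cfsg.Lie
open Cfsg.Agent.Nodes.RGDChev Cfsg.Agent.ChevalleyStructure.NPerm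
open Cfsg.Agent.H116.RatB0 Cfsg.Agent.H770.CY

section Gen

universe u

variable {D : ChevalleyDatum} {l : ℕ} {M : CoxeterMatrix (Fin l)} (hp : IsType D l M) (K : Type u) [Field K]
  [Fintype K] {r f : ℕ} (hr : r.Prime) (hf : f ≠ 0) (hK : Fintype.card K = r ^ f) [CharP K r]

include hr hf hK in
theorem rowA_of_parOrd [Nonempty (Fin l)] [Fintype ↥(D.group K)] {g : ℕ} (hg : g ∣ r ^ f - 1)
    (hT : g * Nat.card (D.diagonalSubgroup K) = (r ^ f - 1) ^ D.rank) {dS : List ℕ} {N : ℕ}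
    (hdS : ∀ d ∈ dS, 0 < d ∧ d < N) (hS : ∃ b, g * Nat.card (D.group K) = r ^ b * pr (r ^ f) dS)
    {p m : ℕ} [hp' : Fact p.Prime] (hpr : p ≠ r) (hpm : (p : ℤ) ∣ E (r ^ f) m) (hm : m < N)
    (hall : ∀ k : Fin l, ∃ (J : List (Fin l)) (dJ : List ℕ), (∀ j, j ∈ J ↔ j ≠ k) ∧
      ((∀ (_ : Finite M.Group), RGD M.toCoxeterSystem hp.isCartan r (TT D K)
        (fun i => (⟨nn hp K i, nn_mem_group hp i⟩ : ↥(D.group K))) (XX D l K) →
        (∀ i, Nat.card (XX D l K (sr i)) = r ^ f) →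
        ParOrd M.toCoxeterSystem hp.isCartan (TT D K) (XX D l K) (r ^ f) l J dJ)) ∧
      (∀ d ∈ dJ, 0 < d ∧ d < N) ∧ (∀ m < N, cnt dJ m ≤ cnt dS m) ∧ cnt dJ m < cnt dS m) :
    RowA p ↥(D.group K) := by
  have : Fact r.Prime := ⟨hr⟩
  have hfin := finite_W hp M.toCoxeterSystem
  have hR := rgd (K := K) hp M.toCoxeterSystem r
  have h2 := two_le hr hf
  have hc : ∀ i, Nat.card (XX D l K (sr i)) = r ^ f := fun i => by
    rw [card_XX hp K M.toCoxeterSystem (isRoot_sr _ _ i), Nat.card_eq_fintype_card, hK]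
  refine rowA_of_index hR (GG_eq_top hp K _) hpr fun k => ?_
  obtain ⟨J, dJ, e1, e2, e3, e4, e5⟩ := hall k
  have h3 : ({j | j ≠ k} : Set (Fin l)) = {j | j ∈ J} := by
    ext j
    exact (e1 j).symm
  rw [h3]
  exact dvd_idx h2 hdS e3 (idx_of_parOrd hp K hr hf hK _ hg hT (fun d hd => (hdS d hd).1) hS (e2 hfin hR hc)) e4 hpm hm e5

end Gen

universe u

variable (K : Type u) [Field K] [Fintype K]

variable {K} {p : ℕ} [Fact p.Prime] (hpK : (p : K) ≠ 0)

include hpK in
theorem rowA_E8_of_dvd [Fintype ↥(chevE8.group K)] {m : ℕ} (hm : m ∈ [2, 3, 4, 5, 6, 8, 10, 12, 15, 20, 24, 30])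
    (hd : (p : ℤ) ∣ E (Fintype.card K) m) : RowA p ↥(chevE8.group K) := by
  obtain ⟨r, f, _, hr, hf, hK⟩ := exists_pow K
  rw [hK] at hd
  have h2 := two_le hr hf
  refine rowA_of_parOrd hpE8 K hr hf hK (g := 1) (one_dvd _)
    (by rw [← hK]; exact Cfsg.Agent.S1035.result rfl (chevE8, 1) (by simp))
    (dS := [2, 8, 12, 14, 18, 20, 24, 30]) (N := 31) (by decide) ⟨f * 120, ?_⟩ (ne_of_cast K hpK) hd ?_ ?_
  · have h3 := Cfsg.Agent.S1065.result hK
    rw [pow_mul]
    simp only [pr_cons, pr_nil]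
    rw [one_mul, h3]
    ring
  · clear hd; revert m; decide
  · intro k
    fin_cases k
    · exact ⟨_, _, by decide, fun _ R hs => oE8_1234567 R h2 hs, by decide, by decide, by clear hd; revert m; decide⟩
    · exact ⟨_, _, by decide, fun _ R hs => oE8_0234567 R h2 hs, by decide, by decide, by clear hd; revert m; decide⟩
    · exact ⟨_, _, by decide, fun _ R hs => oE8_0134567 R h2 hs, by decide, by decide, by clear hd; revert m; decide⟩
    · exact ⟨_, _, by decide, fun _ R hs => oE8_0124567 R h2 hs, by decide, by decide, by clear hd; revert m; decide⟩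
    · exact ⟨_, _, by decide, fun _ R hs => oE8_0123567 R h2 hs, by decide, by decide, by clear hd; revert m; decide⟩
    · exact ⟨_, _, by decide, fun _ R hs => oE8_0123467 R h2 hs, by decide, by decide, by clear hd; revert m; decide⟩
    · exact ⟨_, _, by decide, fun _ R hs => oE8_0123457 R h2 hs, by decide, by decide, by clear hd; revert m; decide⟩
    · exact ⟨_, _, by decide, fun _ R hs => oE8_0123456 R h2 hs, by decide, by decide, by clear hd; revert m; decide⟩

include hpK in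
theorem rowA_F4_of_dvd [Fintype ↥(chevF4.group K)] {m : ℕ} (hm : m ∈ [2, 3, 4, 6, 8, 12])
    (hd : (p : ℤ) ∣ E (Fintype.card K) m) : RowA p ↥(chevF4.group K) := by
  obtain ⟨r, f, _, hr, hf, hK⟩ := exists_pow K
  rw [hK] at hd
  have h2 := two_le hr hf
  refine rowA_of_parOrd hpF4 K hr hf hK (g := 1) (one_dvd _)
    (by rw [← hK]; exact Cfsg.Agent.S1035.result rfl (chevF4, 1) (by simp))
    (dS := [2, 6, 8, 12]) (N := 31) (by decide) ⟨f * 24, ?_⟩ (ne_of_cast K hpK) hd ?_ ?_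
  · have h3 := Cfsg.Agent.S1062.result hK
    rw [pow_mul]
    simp only [pr_cons, pr_nil]
    rw [one_mul, h3]
    ring
  · clear hd; revert m; decide
  · intro k
    fin_cases k
    · exact ⟨_, _, by decide, fun _ R hs => oF4_123 R h2 hs, by decide, by decide, by clear hd; revert m; decide⟩
    · exact ⟨_, _, by decide, fun _ R hs => oF4_023 R h2 hs, by decide, by decide, by clear hd; revert m; decide⟩
    · exact ⟨_, _, by decide, fun _ R hs => oF4_013 R h2 hs, by decide, by decide, by clear hd; revert m; decide⟩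
    · exact ⟨_, _, by decide, fun _ R hs => oF4_012 R h2 hs, by decide, by decide, by clear hd; revert m; decide⟩

include hpK in
theorem rowA_G2_of_dvd [Fintype ↥(chevG2.group K)] {m : ℕ} (hm : m ∈ [2, 3, 6])
    (hd : (p : ℤ) ∣ E (Fintype.card K) m) : RowA p ↥(chevG2.group K) := by
  obtain ⟨r, f, _, hr, hf, hK⟩ := exists_pow K
  rw [hK] at hd
  have h2 := two_le hr hf
  refine rowA_of_parOrd hpG2 K hr hf hK (g := 1) (one_dvd _)
    (by rw [← hK]; exact Cfsg.Agent.S1035.result rfl (chevG2, 1) (by simp))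
    (dS := [2, 6]) (N := 31) (by decide) ⟨f * 6, ?_⟩ (ne_of_cast K hpK) hd ?_ ?_
  · have h3 := Cfsg.Agent.S1059.result hK
    rw [pow_mul]
    simp only [pr_cons, pr_nil]
    rw [one_mul, h3]
    ring
  · clear hd; revert m; decide
  · intro k
    fin_cases k
    · exact ⟨_, _, by decide, fun _ R hs => oG2_1 R h2 hs, by decide, by decide, by clear hd; revert m; decide⟩
    · exact ⟨_, _, by decide, fun _ R hs => oG2_0 R h2 hs, by decide, by decide, by clear hd; revert m; decide⟩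

end Cfsg.Agent.H116.CY
end
end
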